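import Cfsg.Agent.H365.Zsig

/-!
# S5716 (UX), UI part (5): the numerical conditions `big` and `bigp` (helper312)
-/

set_option autoImplicit false

namespace Cfsg.Agent.H312.Ux

theorem two_pow_ge : ∀ l : ℕ, 40 ≤ l → 36864 * l ^ 4 ≤ 2 ^ l := by
  intro l hl
  induction l, hl using Nat.le_induction with
  | base => norm_num
  | succ n hn ih =>
    have h1 : (n + 1) ^ 4 ≤ 2 * n ^ 4 := by
      have h2 : n ^ 4 = n ^ 3 * n := by ring
      have h3 : n ^ 3 * 40 ≤ n ^ 4 := by rw [h2]; exact Nat.mul_le_mul_left _ hn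
      have h4 : n ^ 2 * 40 ≤ n ^ 3 := by rw [show n ^ 3 = n ^ 2 * n by ring]; exact Nat.mul_le_mul_left _ hn
      nlinarith
    calc 36864 * (n + 1) ^ 4 ≤ 36864 * (2 * n ^ 4) := Nat.mul_le_mul_left _ h1
      _ = 2 * (36864 * n ^ 4) := by ring
      _ ≤ 2 * 2 ^ n := Nat.mul_le_mul_left _ ih
      _ = 2 ^ (n + 1) := by ring

theorem totient_block {l e : ℕ} (hl : l.Prime) (ho : Odd l) (he : e = l ∨ e = 2 * l) : e.totient = l - 1 := by
  rcases he with rfl | rfl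
  · exact Nat.totient_prime hl
  · have h1 : Nat.Coprime 2 l := (Nat.coprime_primes Nat.prime_two hl).2 (by rintro rfl; exact absurd ho (by decide))
    rw [Nat.totient_mul h1, Nat.totient_prime hl, Nat.totient_two, one_mul]

theorem key_le {l e : ℕ} (h40 : 40 ≤ l) (he : e = l ∨ e = 2 * l) : 128 * e ^ 2 * (2 * e + 2) ^ 2 ≤ 2 ^ (l - 1) := by
  have h1 := two_pow_ge l h40
  have h2 : 2 ^ l = 2 * 2 ^ (l - 1) := by rw [← pow_succ']; congr 1; omega
  have he2 : e ≤ 2 * l := by omega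
  have h3 : 2 * e + 2 ≤ 6 * l := by omega
  have h4 : 128 * e ^ 2 * (2 * e + 2) ^ 2 ≤ 18432 * l ^ 4 := by
    calc 128 * e ^ 2 * (2 * e + 2) ^ 2 ≤ 128 * (2 * l) ^ 2 * (6 * l) ^ 2 := by gcongr
      _ = 18432 * l ^ 4 := by ring
  omega

theorem le_two_pow (k : ℕ) : k + 1 ≤ 2 ^ k := Nat.lt_two_pow_self

/-- `Num.big` -/
theorem big {l e p f : ℕ} (hl : l.Prime) (ho : Odd l) (h40 : 40 ≤ l) (he : e = l ∨ e = 2 * l) (hp : p.Prime)
    (hf : 1 ≤ f) : 16 * e * (2 * e + 2) ^ 2 ≤ (p ^ f) ^ e.totient := by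
  rw [totient_block hl ho he]
  have h1 := key_le h40 he
  have h2 : 2 ≤ p ^ f := hp.two_le.trans (Nat.le_self_pow (by omega) p)
  calc 16 * e * (2 * e + 2) ^ 2 ≤ 128 * e ^ 2 * (2 * e + 2) ^ 2 := by
        have : 16 * e ≤ 128 * e ^ 2 := by nlinarith [Nat.zero_le e, Nat.le_self_pow (two_ne_zero) e]
        exact Nat.mul_le_mul_right _ this
    _ ≤ 2 ^ (l - 1) := h1
    _ ≤ _ := Nat.pow_le_pow_left h2 _

/-- `Num.bigp` -/
theorem bigp {l e p f : ℕ} (hl : l.Prime) (ho : Odd l) (h40 : 40 ≤ l) (he : e = l ∨ e = 2 * l) (hp : p.Prime)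
    (hf : 1 ≤ f) : 64 * (e * f) * (2 * e + 2) ^ 2 * e ≤ p ^ (e * f).totient := by
  have h1 := key_le h40 he
  have h2 : e.totient * f.totient ≤ (e * f).totient := Nat.totient_super_multiplicative e f
  rw [totient_block hl ho he] at h2
  have h3 : f ≤ 2 * f.totient ^ 2 := H365.Zsig.le_two_mul_totient_sq hf
  obtain ⟨k, hk⟩ : ∃ k, f.totient = k + 1 := ⟨f.totient - 1, by have := Nat.totient_pos.2 hf; omega⟩
  rw [hk] at h2 h3
  have h4 : (k + 1) ^ 2 ≤ 2 ^ (2 * k) := by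
    rw [mul_comm, pow_mul]
    exact Nat.pow_le_pow_left (le_two_pow k) 2
  calc 64 * (e * f) * (2 * e + 2) ^ 2 * e = (64 * e ^ 2 * (2 * e + 2) ^ 2) * f := by ring
    _ ≤ (64 * e ^ 2 * (2 * e + 2) ^ 2) * (2 * (k + 1) ^ 2) := Nat.mul_le_mul_left _ h3
    _ = (128 * e ^ 2 * (2 * e + 2) ^ 2) * (k + 1) ^ 2 := by ring
    _ ≤ 2 ^ (l - 1) * 2 ^ (2 * k) := Nat.mul_le_mul h1 h4
    _ = 2 ^ (l - 1 + 2 * k) := by rw [pow_add]
    _ ≤ 2 ^ ((l - 1) * (k + 1)) := by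
      apply Nat.pow_le_pow_right (by norm_num)
      have : 2 * k ≤ (l - 1) * k := Nat.mul_le_mul_right _ (by omega)
      rw [mul_add, mul_one]
      omega
    _ ≤ 2 ^ (e * f).totient := Nat.pow_le_pow_right (by norm_num) h2
    _ ≤ _ := Nat.pow_le_pow_left hp.two_le _

end Cfsg.Agent.H312.Ux
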